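import Cfsg.Agent.Lib.CoprimeExt.Basic
import Cfsg.Agent.Lib.CT.Induced

/-!
# The determinant of a character, as a linear character
-/

set_option autoImplicit false

attribute [-instance] MonoidHom.instPow MonoidHom.mul instOneMonoidHom MonoidHom.instInv

namespace Cfsg.Agent.RelGraph23

open Cfsg.Agent
open scoped Classical commutatorElement

universe u v

variable {H : Type u} [Group H] [Finite H]

/-- The determinant of a character, as a homomorphism; trivial on functions that are not characters. -/
noncomputable def detF (θ : H → ℂ) : H →* ℂˣ :=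
  if h : Cfsg.IsCharacter H θ then
    CoprimeExt.detHom (Classical.choose (Classical.choose_spec h)) else 1

theorem detF_coe (θ : H → ℂ) (h : H) : (detF θ h : ℂ) = Cfsg.detChar θ h := by
  unfold detF Cfsg.detChar
  split_ifs with hc
  · rfl
  · rfl

theorem detF_character {V : Type v} [AddCommGroup V] [Module ℂ V] [FiniteDimensional ℂ V]
    (ρ : Representation ℂ H V) : detF ρ.character = CoprimeExt.detHom ρ :=
  MonoidHom.ext fun h => Units.ext <| by rw [detF_coe, CoprimeExt.detChar_eq]

theorem detF_add {a b : H → ℂ} (ha : Cfsg.IsCharacter H a) (hb : Cfsg.IsCharacter H b) :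
    detF (a + b) = detF a * detF b := by
  obtain ⟨n, ρ, rfl⟩ := ha
  obtain ⟨m, σ, rfl⟩ := hb
  rw [← CT.char_prod, detF_character, detF_character, detF_character]
  exact MonoidHom.ext fun h => Units.ext (LinearMap.det_prodMap (ρ h) (σ h))

theorem detF_zero : detF (0 : H → ℂ) = 1 := by
  have h0 : (0 : H → ℂ) = (Representation.trivial ℂ H (Fin 0 → ℂ)).character := by
    funext g
    simp [Representation.character, Representation.trivial]
  rw [h0, detF_character]
  exact MonoidHom.ext fun h => Units.ext LinearMap.det_id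

theorem detF_sum {ι : Type v} (s : Finset ι) (f : ι → H → ℂ)
    (h : ∀ i ∈ s, Cfsg.IsCharacter H (f i)) : detF (∑ i ∈ s, f i) = ∏ i ∈ s, detF (f i) := by
  induction s using Finset.induction with
  | empty => simp [detF_zero]
  | insert a s ha ih =>
    rw [Finset.sum_insert ha, Finset.prod_insert ha,
      detF_add (h a (Finset.mem_insert_self a s))
        (CT.isCharacter_sum s fun i hi => h i (Finset.mem_insert_of_mem hi)),
      ih fun i hi => h i (Finset.mem_insert_of_mem hi)]

theorem detF_nsmul {θ : H → ℂ} (hθ : Cfsg.IsCharacter H θ) (e : ℕ) :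
    detF ((e : ℂ) • θ) = detF θ ^ e := by
  induction e with
  | zero =>
    rw [Nat.cast_zero, zero_smul, detF_zero]
    exact MonoidHom.ext fun h => by simp
  | succ e ih =>
    rw [Nat.cast_succ, add_smul, one_smul, detF_add (CT.isCharacter_nsmul e hθ) hθ, ih]
    exact MonoidHom.ext fun h => by simp [pow_succ]

theorem detF_comp {K : Type v} [Group K] [Finite K] (f : K →* H) {θ : H → ℂ}
    (hθ : Cfsg.IsCharacter H θ) : detF (fun k => θ (f k)) = (detF θ).comp f := by
  obtain ⟨n, ρ, rfl⟩ := hθ
  rw [detF_character, show (fun k => ρ.character (f k)) =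
    (CoprimeExt.pullRep ρ f).character from rfl, detF_character]
  exact MonoidHom.ext fun k => Units.ext rfl

theorem detF_lin (lam : H →* ℂˣ) : detF (fun h => (lam h : ℂ)) = lam := by
  rw [← CT.linRep_character lam, detF_character]
  refine MonoidHom.ext fun h => Units.ext ?_
  rw [CoprimeExt.detHom_apply]
  simp [CT.linRep]

theorem detF_mul_lin {θ : H → ℂ} (hθ : Cfsg.IsCharacter H θ) (μ : H →* ℂˣ) :
    detF (θ * fun h => (μ h : ℂ)) = detF θ * μ ^ CT.deg θ := by
  obtain ⟨n, ρ, rfl⟩ := hθ
  let σ : Representation ℂ H (Fin n → ℂ) :=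
    { toFun := fun g => (μ g : ℂ) • ρ g
      map_one' := by simp
      map_mul' := fun g h => by simp [smul_smul, mul_comm] }
  have hσ : σ.character = ρ.character * fun h => (μ h : ℂ) := by
    funext g
    simp [σ, Representation.character, mul_comm]
  rw [← hσ, detF_character, detF_character, CT.deg_eq_finrank]
  refine MonoidHom.ext fun g => Units.ext ?_
  rw [CoprimeExt.detHom_apply, show σ g = (μ g : ℂ) • ρ g from rfl, LinearMap.det_smul]
  simp [CoprimeExt.detHom_apply, mul_comm]

theorem detF_trivial_on_commutator (θ : H → ℂ) {h : H} (hh : h ∈ commutator H) :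
    detF θ h = 1 :=
  (commutator_eq_closure H ▸ (Subgroup.closure_le (detF θ).ker).mpr (by
    rintro _ ⟨a, b, rfl⟩
    show detF θ ⁅a, b⁆ = 1
    rw [map_commutatorElement]
    exact commutatorElement_eq_one_iff_mul_comm.mpr (mul_comm _ _))) hh

end Cfsg.Agent.RelGraph23
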