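import Cfsg.Agent.Lib.RelGraph23.Main
import Cfsg.Agent.Lib.CT.Degree
import Cfsg.Agent.Lib.CT.GallagherExt
import Cfsg.Agent.Lib.CT.NormalizerExtend
import Mathlib.GroupTheory.Solvable

/-!
# The non-full component of a disconnected relative degree graph

All non-linear constituents attached to that component have a prime in common, namely the prime
of a top chief-type section of the derived subgroup of `N`.
-/

set_option autoImplicit false

attribute [-instance] MonoidHom.instPow MonoidHom.mul instOneMonoidHom MonoidHom.instInv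

namespace Cfsg.Agent.RelGraph23

open Cfsg.Agent
open scoped Classical commutatorElement

universe u

section Chars

variable {H : Type u} [Group H] [Finite H]

theorem comm_of_all_linear (h : ∀ χ : Cfsg.IrrCharacter H, CT.deg (χ : H → ℂ) = 1) (a b : H) :
    a * b = b * a := by
  haveI := Fintype.ofFinite H
  have key : IsConj ⁅a, b⁆ (1 : H) := CT.isConj_iff_forall_irr.mpr fun χ => by
    have hc := CT.isCharacter_of_isIrr χ.2
    exact CT.linear_trivial_on_commutator hc (by rw [CT.deg_eq hc, h χ, Nat.cast_one]) _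
      (Subgroup.commutator_mem_commutator (Subgroup.mem_top a) (Subgroup.mem_top b))
  exact commutatorElement_eq_one_iff_mul_comm.mp (isConj_one_left.mp key)

/-- A non-linear character trivial on `L` whose degree divides the index of `U`, when `U/L` is
abelian and some commutator lies outside `L`. -/
theorem exists_nonlinear_over (L U : Subgroup H) [L.Normal] [U.Normal] (hLU : L ≤ U)
    (hU : ∀ a ∈ U, ∀ b ∈ U, ⁅a, b⁆ ∈ L) {a b : H} (hab : ⁅a, b⁆ ∉ L) :
    ∃ β : Cfsg.IrrCharacter H, (∀ l ∈ L, (β : H → ℂ) l = (β : H → ℂ) 1) ∧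
      1 < CT.deg (β : H → ℂ) ∧ CT.deg (β : H → ℂ) ∣ U.index := by
  haveI := Fintype.ofFinite (H ⧸ L)
  haveI hn : (U.map (QuotientGroup.mk' L)).Normal :=
    Subgroup.Normal.map inferInstance _ (QuotientGroup.mk'_surjective L)
  haveI := Fintype.ofFinite ↥(U.map (QuotientGroup.mk' L))
  obtain ⟨β₀, hβ₀⟩ : ∃ β : Cfsg.IrrCharacter (H ⧸ L), CT.deg (β : H ⧸ L → ℂ) ≠ 1 := by
    by_contra hh
    push Not at hh
    refine hab ((QuotientGroup.eq_one_iff _).mp ?_)
    show QuotientGroup.mk' L ⁅a, b⁆ = 1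
    rw [map_commutatorElement, commutatorElement_eq_one_iff_mul_comm]
    exact comm_of_all_linear hh _ _
  let f : H → ℂ := fun g => (β₀ : H ⧸ L → ℂ) (QuotientGroup.mk g)
  have hf : Cfsg.IsIrrCharacter H f := CT.isIrr_inflate L β₀.2 fun g => rfl
  have hdeg : CT.deg f = CT.deg (β₀ : H ⧸ L → ℂ) := by
    have e : f 1 = (β₀ : H ⧸ L → ℂ) 1 := rfl
    rw [CT.deg_eq (CT.isCharacter_of_isIrr hf), CT.deg_eq (CT.isCharacter_of_isIrr β₀.2)] at e
    exact_mod_cast e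
  refine ⟨⟨f, hf⟩, fun l hl => ?_, ?_, ?_⟩
  · show (β₀ : H ⧸ L → ℂ) (QuotientGroup.mk l) = (β₀ : H ⧸ L → ℂ) 1
    rw [(QuotientGroup.eq_one_iff l).mpr hl]
  · have := CT.deg_pos β₀.2
    show 1 < CT.deg f
    omega
  · show CT.deg f ∣ U.index
    have hcomm : ∀ x y : ↥(U.map (QuotientGroup.mk' L)), x * y = y * x := by
      rintro ⟨_, u, hu, rfl⟩ ⟨_, v, hv, rfl⟩
      refine Subtype.ext (commutatorElement_eq_one_iff_mul_comm.mp ?_)
      show ⁅QuotientGroup.mk' L u, QuotientGroup.mk' L v⁆ = 1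
      rw [← map_commutatorElement]
      exact (QuotientGroup.eq_one_iff _).mpr (hU u hu v hv)
    rw [hdeg, ← Subgroup.index_map_eq U (QuotientGroup.mk'_surjective L)
      (by rw [QuotientGroup.ker_mk']; exact hLU)]
    exact CT.deg_dvd_index_of_comm _ β₀.2 hcomm

/-- Restriction to a normal subgroup of index prime to the degree is irreducible. -/
theorem isIrr_restrict_of_coprime [Fintype H] (L : Subgroup H) [L.Normal] [Fintype ↥L] {θ : H → ℂ}
    (hθ : Cfsg.IsIrrCharacter H θ) (hcop : (CT.deg θ).Coprime L.index) :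
    Cfsg.IsIrrCharacter ↥L (fun l : ↥L => θ l) := by
  obtain ⟨φ, hφ⟩ := CT.exists_constituent_restrict L hθ
  obtain ⟨k, hk, hkd⟩ := CT.deg_ratio_dvd_index L hθ φ.2 hφ
  have hk1 : k = 1 := Nat.eq_one_of_dvd_coprimes hcop (Dvd.intro _ hk.symm) hkd
  rw [hk1, one_mul] at hk
  have hres := CT.isCharacter_restrict L (CT.isCharacter_of_isIrr hθ)
  have hsum := NormExt.deg_restrict_eq L (CT.isCharacter_of_isIrr hθ)
  have hmspec := CT.mult_spec hres (CT.isCharacter_of_isIrr φ.2)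
  have hm0 : CT.mult (fun l : ↥L => θ l) φ ≠ 0 := fun e => hφ (by rw [hmspec, e, Nat.cast_zero])
  have hpos : ∀ c : Cfsg.IrrCharacter ↥L, 0 < CT.deg (c : ↥L → ℂ) := fun c => CT.deg_pos c.2
  rw [← Finset.add_sum_erase _ _ (Finset.mem_univ φ)] at hsum
  have h1 : CT.mult (fun l : ↥L => θ l) φ = 1 := by
    have h2 : CT.mult (fun l : ↥L => θ l) φ * CT.deg (φ : ↥L → ℂ) ≤ 1 * CT.deg (φ : ↥L → ℂ) := by
      omega
    have := Nat.le_of_mul_le_mul_right h2 (hpos φ)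
    omega
  rw [h1, one_mul, hk] at hsum
  have h0 : ∀ c ∈ Finset.univ.erase φ, CT.mult (fun l : ↥L => θ l) (c : ↥L → ℂ) * CT.deg (c : ↥L → ℂ) = 0 :=
    Finset.sum_eq_zero_iff.mp (by omega)
  have e : (fun l : ↥L => θ l) = (φ : ↥L → ℂ) := by
    conv_lhs => rw [CT.character_eq_sum hres]
    rw [Finset.sum_eq_single φ]
    · rw [h1, Nat.cast_one, one_smul]
    · intro c _ hc
      have := h0 c (Finset.mem_erase.mpr ⟨hc, Finset.mem_univ _⟩)
      rcases mul_eq_zero.mp this with h | h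
      · rw [h, Nat.cast_zero, zero_smul]
      · exact absurd h (hpos c).ne'
    · exact fun h => absurd (Finset.mem_univ _) h
  rw [e]; exact φ.2

/-- Gallagher: an irreducible character with irreducible restriction to `L`, times an irreducible
character trivial on `L`. -/
theorem isIrr_mul_of_res [Fintype H] (L : Subgroup H) [L.Normal] [Fintype ↥L] {θ : H → ℂ}
    (hθ : Cfsg.IsIrrCharacter H θ) (hres : Cfsg.IsIrrCharacter ↥L (fun l : ↥L => θ l))
    (β : Cfsg.IrrCharacter H) (hβ : ∀ l ∈ L, (β : H → ℂ) l = (β : H → ℂ) 1) :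
    Cfsg.IsIrrCharacter H ((β : H → ℂ) * θ) := by
  have h1 : Cfsg.IsIrrCharacter ↥L (fun _ : ↥L => (1 : ℂ)) := CT.isIrrCharacter_one
  have hθinv : ∀ g, CT.conjFun L g (fun l : ↥L => θ l) = fun l : ↥L => θ l := fun g =>
    CT.conjFun_restrict L g (CT.isClassFunction_of_isIrr hθ)
  have hne : Cfsg.classInner (Cfsg.indFun L (fun _ : ↥L => (1 : ℂ))) (β : H → ℂ) ≠ 0 := by
    rw [CT.frobenius_reciprocity L _ (CT.isClassFunction_of_isIrr β.2),
      show (fun l : ↥L => (β : H → ℂ) l) = (β : H → ℂ) 1 • fun _ : ↥L => (1 : ℂ) from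
        funext fun l => by simp [hβ l l.2],
      CT.classInner_smul_right, CT.irr_inner_self h1, mul_one]
    simpa using CT.irr_one_ne_zero β.2
  have h := CT.GallagherExt.inner_mul_ext L h1 (fun g => rfl) hθinv
    (by
      have e : ((fun _ : ↥L => (1 : ℂ)) * fun l : ↥L => θ l) = fun l : ↥L => θ l :=
        funext fun l => one_mul _
      rw [e]; exact hres) hθ (fun _ => rfl) β β hne hne
  rw [if_pos rfl] at h
  exact CT.isIrr_of_inner_self
    (CT.isCharacter_mul (CT.isCharacter_of_isIrr β.2) (CT.isCharacter_of_isIrr hθ)) h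

/-- A characteristic subgroup of prime-power index containing the derived subgroup. -/
theorem exists_powSubgroup [Nontrivial (Abelianization H)] :
    ∃ (r : ℕ) (L : Subgroup H), r.Prime ∧ commutator H ≤ L ∧ L ≠ ⊤ ∧ (∃ j, L.index = r ^ j) ∧
      ∀ e : H ≃* H, ∀ x ∈ L, e x ∈ L := by
  obtain ⟨r, hr, hrd⟩ := Nat.exists_prime_and_dvd (n := Nat.card (Abelianization H))
    (Finite.one_lt_card (α := Abelianization H)).ne'
  haveI : Fact r.Prime := ⟨hr⟩
  let R : Subgroup (Abelianization H) := (powMonoidHom r).range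
  refine ⟨r, R.comap Abelianization.of, hr, ?_, ?_, ?_, ?_⟩
  · intro x hx
    have : Abelianization.of x = 1 := (QuotientGroup.eq_one_iff x).mpr hx
    rw [Subgroup.mem_comap, this]
    exact one_mem _
  · intro htop
    have hsurj : Function.Surjective (powMonoidHom r : Abelianization H →* Abelianization H) := by
      intro y
      obtain ⟨x, rfl⟩ := QuotientGroup.mk'_surjective (commutator H) y
      have : x ∈ R.comap Abelianization.of := htop ▸ Subgroup.mem_top x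
      exact this
    obtain ⟨a, ha⟩ := exists_prime_orderOf_dvd_card' (G := Abelianization H) r hrd
    have h2 : a = 1 := (Finite.injective_iff_surjective.mpr hsurj)
      (by simp only [powMonoidHom_apply, one_pow, ← ha, pow_orderOf_eq_one])
    rw [h2, orderOf_one] at ha
    exact hr.ne_one ha.symm
  · rw [Subgroup.index_comap_of_surjective R
      (show Function.Surjective (Abelianization.of : H →* Abelianization H) from
        QuotientGroup.mk'_surjective (commutator H))]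
    have hp : IsPGroup r (Abelianization H ⧸ R) := by
      intro y
      obtain ⟨x, rfl⟩ := QuotientGroup.mk'_surjective R y
      exact ⟨1, by rw [pow_one, ← map_pow]; exact (QuotientGroup.eq_one_iff _).mpr ⟨x, rfl⟩⟩
    obtain ⟨j, hj⟩ := IsPGroup.iff_card.mp hp
    exact ⟨j, hj⟩
  · intro e x hx
    obtain ⟨y, hy⟩ := Subgroup.mem_comap.mp hx
    refine Subgroup.mem_comap.mpr ⟨Abelianization.map e.toMonoidHom y, ?_⟩
    rw [powMonoidHom_apply] at hy ⊢
    rw [← map_pow, hy, Abelianization.map_of]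
    rfl

end Chars

variable {G : Type u} [Group G] [Finite G] (N : Subgroup G) [hN : N.Normal]

theorem exists_over_deg (θ : Cfsg.IrrCharacter ↥N) (h1 : 1 < CT.deg (θ : ↥N → ℂ)) :
    ∃ x : ↥(Cfsg.relCharDegrees N), CT.deg (θ : ↥N → ℂ) ∣ (x : ℕ) := by
  haveI := Fintype.ofFinite G
  haveI := Fintype.ofFinite ↥N
  obtain ⟨χ, hχ⟩ := CT.exists_irr_over N θ.2
  refine ⟨⟨CT.deg (χ : G → ℂ), χ, ?_, rfl⟩, Dvd.intro_left _ (CT.clifford_mult N χ.2 θ.2 hχ).symm⟩
  by_contra hh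
  push Not at hh
  have e : (fun n : ↥N => (χ : G → ℂ) n) = (χ : G → ℂ) 1 • fun _ : ↥N => (1 : ℂ) :=
    funext fun n => by simp [hh n n.2]
  rw [e, CT.classInner_smul_left] at hχ
  have h2 := CT.eq_of_inner_ne_zero (CT.isIrrCharacter_one) θ.2 (right_ne_zero_of_mul hχ)
  have h3 := CT.deg_eq (CT.isCharacter_of_isIrr θ.2)
  rw [← h2] at h3 h1
  have : CT.deg (fun _ : ↥N => (1 : ℂ)) = 1 := (Nat.cast_eq_one.mp h3.symm)
  omega

/-- The common prime of the non-linear constituents lying under degrees prime to `[N : N']`. -/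
theorem common_prime [Group.IsSolvable ↥N] :
    ∃ r : ℕ, r.Prime ∧ ∀ θ : Cfsg.IrrCharacter ↥N, 1 < CT.deg (θ : ↥N → ℂ) →
      (CT.deg (θ : ↥N → ℂ)).Coprime (commutator ↥N).index →
      (∀ z : ↥(Cfsg.relCharDegrees N), CT.deg (θ : ↥N → ℂ) ∣ (z : ℕ) →
        (z : ℕ).Coprime (commutator ↥N).index) →
      r ∣ CT.deg (θ : ↥N → ℂ) := by
  haveI := Fintype.ofFinite ↥N
  by_cases hbot : commutator ↥N = ⊥
  · refine ⟨2, Nat.prime_two, fun θ h1 _ _ => absurd h1 ?_⟩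
    have hc : ∀ a b : ↥N, a * b = b * a := fun a b =>
      commutatorElement_eq_one_iff_mul_comm.mp (by
        rw [← Subgroup.mem_bot, ← hbot]
        exact Subgroup.commutator_mem_commutator (Subgroup.mem_top a) (Subgroup.mem_top b))
    have hθc := CT.isCharacter_of_isIrr θ.2
    have := CT.deg_eq hθc
    rw [CT.irr_degree_one_of_comm hc θ.2] at this
    have h' : CT.deg (θ : ↥N → ℂ) = 1 := by exact_mod_cast this.symm
    omega
  haveI : Nontrivial ↥(commutator ↥N) := (Subgroup.nontrivial_iff_ne_bot _).mpr hbot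
  haveI : Nontrivial (Abelianization ↥(commutator ↥N)) := by
    refine not_subsingleton_iff_nontrivial.mp fun h => ?_
    exact (Group.IsSolvable.commutator_lt_top_of_nontrivial ↥(commutator ↥N)).ne
      (eq_top_iff.mpr fun x _ => (QuotientGroup.eq_one_iff x).mp (h.elim (Abelianization.of x) 1))
  obtain ⟨r, L₀, hr, hL₀c, hL₀t, ⟨j, hj⟩, hchar⟩ := exists_powSubgroup (H := ↥(commutator ↥N))
  refine ⟨r, hr, fun θ h1 hcop hz => ?_⟩
  let L : Subgroup ↥N := L₀.map (commutator ↥N).subtype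
  haveI hLn : L.Normal := ⟨fun x hx g => by
    obtain ⟨y, hy, rfl⟩ := Subgroup.mem_map.mp hx
    exact Subgroup.mem_map.mpr ⟨MulAut.conjNormal g y, hchar _ y hy, MulAut.conjNormal_apply g y⟩⟩
  haveI := Fintype.ofFinite ↥L
  have hLU : L ≤ commutator ↥N := Subgroup.map_subtype_le _
  have hidx : L.index = r ^ j * (commutator ↥N).index := by
    rw [Subgroup.index_map_subtype, hj]
  by_contra hrθ
  have hcopL : (CT.deg (θ : ↥N → ℂ)).Coprime L.index := by
    rw [hidx]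
    exact Nat.Coprime.mul_right (Nat.Coprime.pow_right j (hr.coprime_iff_not_dvd.mpr hrθ).symm) hcop
  obtain ⟨a, b, hab⟩ : ∃ a b : ↥N, ⁅a, b⁆ ∉ L := by
    by_contra hh
    push Not at hh
    refine hL₀t (eq_top_iff.mpr fun x _ => ?_)
    have h3 : commutator ↥N ≤ L := by
      rw [commutator_def]
      exact Subgroup.commutator_le.mpr fun a _ b _ => hh a b
    obtain ⟨y, hy, he⟩ := Subgroup.mem_map.mp (h3 x.2)
    exact (Subtype.ext he : y = x) ▸ hy
  obtain ⟨β, hβL, hβ1, hβd⟩ := exists_nonlinear_over L (commutator ↥N) hLU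
    (fun x hx y hy => Subgroup.mem_map.mpr ⟨⁅(⟨x, hx⟩ : ↥(commutator ↥N)), ⟨y, hy⟩⁆,
      hL₀c (Subgroup.commutator_mem_commutator (Subgroup.mem_top _) (Subgroup.mem_top _)), rfl⟩) hab
  have hirr := isIrr_mul_of_res L θ.2 (isIrr_restrict_of_coprime L θ.2 hcopL) β hβL
  let φ : Cfsg.IrrCharacter ↥N := ⟨_, hirr⟩
  have hdeg : CT.deg (φ : ↥N → ℂ) = CT.deg (β : ↥N → ℂ) * CT.deg (θ : ↥N → ℂ) := by
    have e : (φ : ↥N → ℂ) 1 = (β : ↥N → ℂ) 1 * (θ : ↥N → ℂ) 1 := rfl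
    rw [CT.deg_eq (CT.isCharacter_of_isIrr φ.2), CT.deg_eq (CT.isCharacter_of_isIrr β.2),
      CT.deg_eq (CT.isCharacter_of_isIrr θ.2)] at e
    exact_mod_cast e
  obtain ⟨z, hzd⟩ := exists_over_deg N φ (by rw [hdeg]; nlinarith)
  rw [hdeg] at hzd
  have := hz z ((dvd_mul_left _ _).trans hzd)
  have h4 := Nat.eq_one_of_dvd_coprimes this ((dvd_mul_right _ _).trans hzd) hβd
  omega

/-- What a degree prime to `[N : N']` is attached to. -/
theorem attached (hNG : N ≤ commutator G) (x : ↥(Cfsg.relCharDegrees N))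
    (hx : (x : ℕ).Coprime (commutator ↥N).index) :
    (∃ θ : Cfsg.IrrCharacter ↥N, 1 < CT.deg (θ : ↥N → ℂ) ∧ CT.deg (θ : ↥N → ℂ) ∣ (x : ℕ)) ∨
      ∃ q η, PType N q η ∧ dd N q η ∣ (x : ℕ) := by
  haveI := Fintype.ofFinite G
  haveI := Fintype.ofFinite ↥N
  obtain ⟨χ, ⟨n₀, hn₀, hne⟩, hdeg⟩ := x.2
  obtain ⟨θ, hθ⟩ := CT.exists_constituent_restrict N χ.2
  have hmult := CT.clifford_mult N χ.2 θ.2 hθ
  have hxdeg : (x : ℕ) = CT.deg (χ : G → ℂ) := hdeg.symm
  have hθc := CT.isCharacter_of_isIrr θ.2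
  by_cases h1 : CT.deg (θ : ↥N → ℂ) = 1
  · right
    obtain ⟨w, hw⟩ := CT.exists_hom_of_degree_one hθc (by rw [CT.deg_eq hθc, h1, Nat.cast_one])
    have hdet : detF (θ : ↥N → ℂ) = w := by rw [hw, detF_lin]
    have hw1 : w ≠ 1 := by
      rintro rfl
      have hinv : ∀ g, CT.conjFun N g (θ : ↥N → ℂ) = θ := fun g => by
        rw [hw]; funext n; simp [CT.conjFun]
      have h2 := CT.restrict_eq_smul_of_invariant N χ.2 θ.2 hθ hinv
      have e1 := congrFun h2 ⟨n₀, hn₀⟩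
      have e2 := congrFun h2 1
      rw [hw] at e1 e2
      simp only [Pi.smul_apply, MonoidHom.one_apply, OneMemClass.coe_one] at e1 e2
      exact hne (e1.trans e2.symm)
    obtain ⟨q, hq, hqw⟩ := exists_primePart N hw1
    refine ⟨q, w ^ rr N q, ⟨hq, isP_pow_rr N q w, hqw⟩, ?_⟩
    have := dd_dvd N hNG χ.2 θ hθ hq (by rw [hdet]; exact hqw)
    rwa [hdet, ← hxdeg] at this
  · left
    refine ⟨θ, ?_, ?_⟩
    · have := CT.deg_pos θ.2
      omega
    · rw [hxdeg, hmult]; exact Dvd.intro_left _ rfl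

/-- A degree meeting a non-linear constituent and a primary linear character. -/
theorem meet_mixed (hNG : N ≤ commutator G) (θ : Cfsg.IrrCharacter ↥N) {p : ℕ} {ξ : ↥N →* ℂˣ}
    (hξ : PType N p ξ) (hfp : (CT.deg (θ : ↥N → ℂ)).Coprime p) :
    ∃ z : ↥(Cfsg.relCharDegrees N), CT.deg (θ : ↥N → ℂ) ∣ (z : ℕ) ∧ dd N p ξ ∣ (z : ℕ) := by
  haveI := Fintype.ofFinite G
  haveI := Fintype.ofFinite ↥N
  have hp := hξ.1
  have hθc := CT.isCharacter_of_isIrr θ.2
  have htarget : IsP N p (ξ * ((detF (θ : ↥N → ℂ)) ^ rr N p)⁻¹) := by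
    rw [IsP, mul_pow, show ξ ^ _ = 1 from hξ.2.1, inv_pow,
      show (detF (θ : ↥N → ℂ) ^ rr N p) ^ _ = 1 from isP_pow_rr N p _]
    simp
  obtain ⟨μ, -, hμ, -⟩ := exists_root N (Nat.Coprime.mul_left hfp (rr_coprime N hp)) htarget
  let φ : Cfsg.IrrCharacter ↥N := ⟨(θ : ↥N → ℂ) * fun n => (μ n : ℂ),
    OddChar.isIrr_mul_linear θ.2 (CT.isCharacter_lin μ) (by simp)⟩
  have hdet : detF (φ : ↥N → ℂ) ^ rr N p = ξ := by
    show detF ((θ : ↥N → ℂ) * fun n => (μ n : ℂ)) ^ rr N p = ξ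
    rw [detF_mul_lin hθc, mul_pow, ← pow_mul, hμ]
    exact mul_inv_cancel_comm_assoc _ _
  obtain ⟨z, hz1, hz2⟩ := exists_over N hNG φ hp (by rw [hdet]; exact hξ.2.2)
  rw [hdet] at hz1
  have hφd : CT.deg (φ : ↥N → ℂ) = CT.deg (θ : ↥N → ℂ) := by simp [φ, CT.deg]
  exact ⟨z, hφd ▸ hz2, hz1⟩

theorem meet_primes (hNG : N ≤ commutator G) {p q : ℕ} {η ξ : ↥N →* ℂˣ} (hη : PType N p η)
    (hξ : PType N q ξ) (hpq : p ≠ q) :
    ∃ z : ↥(Cfsg.relCharDegrees N), dd N p η ∣ (z : ℕ) ∧ dd N q ξ ∣ (z : ℕ) := by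
  haveI := Fintype.ofFinite G
  haveI := Fintype.ofFinite ↥N
  obtain ⟨w, hwP, hw, -⟩ := exists_root N (rr_coprime N hη.1) hη.2.1
  obtain ⟨v, hvP, hv, -⟩ := exists_root N (rr_coprime N hξ.1) hξ.2.1
  have e1 : (w * v) ^ rr N p = η := by
    rw [mul_pow, hw, pow_rr_eq_one N hη.1 hξ.1 hpq hvP]
    exact mul_one η
  have e2 : (w * v) ^ rr N q = ξ := by
    rw [mul_pow, hv, pow_rr_eq_one N hξ.1 hη.1 hpq.symm hwP]
    exact one_mul ξ
  have e : detF ((CT.linIrr (w * v) : Cfsg.IrrCharacter ↥N) : ↥N → ℂ) = w * v := detF_lin (w * v)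
  obtain ⟨χ, hχ⟩ := CT.exists_irr_over (G := G) N (CT.linIrr (w * v)).2
  have h1 := dd_dvd N hNG χ.2 _ hχ hη.1 (by rw [e, e1]; exact hη.2.2)
  have h2 := dd_dvd N hNG χ.2 _ hχ hξ.1 (by rw [e, e2]; exact hξ.2.2)
  rw [e, e1] at h1
  rw [e, e2] at h2
  refine ⟨⟨CT.deg (χ : G → ℂ), χ, ?_, rfl⟩, h1, h2⟩
  by_contra hh
  push Not at hh
  have e' : (fun n : ↥N => (χ : G → ℂ) n) = (χ : G → ℂ) 1 • fun _ : ↥N => (1 : ℂ) :=
    funext fun n => by simp [hh n n.2]
  rw [e', CT.classInner_smul_left] at hχ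
  have h3 := CT.eq_of_inner_ne_zero (CT.isIrrCharacter_one) (CT.linIrr (w * v)).2
    (right_ne_zero_of_mul hχ)
  refine hη.2.2 (e1.symm.trans ?_)
  have h4 : w * v = 1 := MonoidHom.ext fun n => Units.ext (by
    simpa [CT.linIrr] using (congrFun h3 n).symm)
  rw [h4]
  exact one_pow (M := ↥N →* ℂˣ) _

theorem adj_of_dvd {x y : ↥(Cfsg.relCharDegrees N)} {r : ℕ} (hne : x ≠ y) (hr : 1 < r)
    (hx : r ∣ (x : ℕ)) (hy : r ∣ (y : ℕ)) :
    (Cfsg.commonDivisorGraph.induce (Cfsg.relCharDegrees N)).Adj x y :=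
  show Cfsg.commonDivisorGraph.Adj (x : ℕ) (y : ℕ) from
    ⟨fun h => hne (Subtype.ext h), lt_of_lt_of_le hr
      (Nat.le_of_dvd (Nat.gcd_pos_of_pos_left _ (pos_of_mem N x.2)) (Nat.dvd_gcd hx hy))⟩

theorem two_step {b c z : ↥(Cfsg.relCharDegrees N)} {r s : ℕ} (hne : b ≠ c) (hr : 1 < r)
    (hs : 1 < s) (hrb : r ∣ (b : ℕ)) (hrz : r ∣ (z : ℕ)) (hsc : s ∣ (c : ℕ)) (hsz : s ∣ (z : ℕ)) :
    (Cfsg.commonDivisorGraph.induce (Cfsg.relCharDegrees N)).Adj b c ∨
      ∃ d, (Cfsg.commonDivisorGraph.induce (Cfsg.relCharDegrees N)).Adj b d ∧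
        (Cfsg.commonDivisorGraph.induce (Cfsg.relCharDegrees N)).Adj d c := by
  by_cases hbz : b = z
  · subst hbz; exact Or.inl (adj_of_dvd N hne hs hsz hsc)
  by_cases hcz : z = c
  · subst hcz; exact Or.inl (adj_of_dvd N hne hr hrb hrz)
  exact Or.inr ⟨z, adj_of_dvd N hbz hr hrb hrz, adj_of_dvd N hcz hs hsz hsc⟩

theorem disconnected_structure [Group.IsSolvable ↥N] (hNG : N ≤ commutator G)
    (hdisc : ¬ (Cfsg.commonDivisorGraph.induce (Cfsg.relCharDegrees N)).Preconnected) :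
    ∃ a₀ : ↥(Cfsg.relCharDegrees N),
      (∀ b c : ↥(Cfsg.relCharDegrees N),
        (Cfsg.commonDivisorGraph.induce (Cfsg.relCharDegrees N)).Reachable a₀ b →
        (Cfsg.commonDivisorGraph.induce (Cfsg.relCharDegrees N)).Reachable a₀ c → b ≠ c →
        (Cfsg.commonDivisorGraph.induce (Cfsg.relCharDegrees N)).Adj b c) ∧
      (∀ b c : ↥(Cfsg.relCharDegrees N),
        ¬ (Cfsg.commonDivisorGraph.induce (Cfsg.relCharDegrees N)).Reachable a₀ b →
        ¬ (Cfsg.commonDivisorGraph.induce (Cfsg.relCharDegrees N)).Reachable a₀ c → b ≠ c →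
        (Cfsg.commonDivisorGraph.induce (Cfsg.relCharDegrees N)).Adj b c ∨
          ∃ d : ↥(Cfsg.relCharDegrees N),
            (Cfsg.commonDivisorGraph.induce (Cfsg.relCharDegrees N)).Adj b d ∧
            (Cfsg.commonDivisorGraph.induce (Cfsg.relCharDegrees N)).Adj d c) := by
  set Γ := Cfsg.commonDivisorGraph.induce (Cfsg.relCharDegrees N) with hΓ
  obtain ⟨x₀, y₀, hxy⟩ : ∃ x y, ¬ Γ.Reachable x y := by
    by_contra hh
    push Not at hh
    exact hdisc fun x y => hh x y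
  have hidx : ⁅N, N⁆.relIndex N = (commutator ↥N).index := by
    rw [← Subgroup.map_subtype_commutator, Subgroup.relIndex, Subgroup.subgroupOf,
      Subgroup.comap_map_eq_self_of_injective N.subtype_injective]
  set m := (commutator ↥N).index with hm
  haveI : Nontrivial ↥N := by
    obtain ⟨χ, ⟨n, hn, hne⟩, -⟩ := x₀.2
    exact ⟨⟨⟨n, hn⟩, 1, fun e => hne (by rw [show n = 1 from congrArg Subtype.val e])⟩⟩
  obtain ⟨p₀, hp₀, hp₀m⟩ := Nat.exists_prime_and_dvd (n := m)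
    (fun h => (Group.IsSolvable.commutator_lt_top_of_nontrivial ↥N).ne (Subgroup.index_eq_one.mp h))
  let Full : ↥(Cfsg.relCharDegrees N) → Prop := fun x => ∀ p, p.Prime → p ∣ m → p ∣ (x : ℕ)
  have hnf : ∀ x y, ¬ Full x → ¬ Full y → Γ.Reachable x y := by
    intro x y hx hy
    simp only [Full, not_forall] at hx hy
    obtain ⟨p, hp, hpm, hpx⟩ := hx
    obtain ⟨q, hq, hqm, hqy⟩ := hy
    exact reach_of_not_full N hNG x y hp (hidx ▸ hpm) hpx hq (hidx ▸ hqm) hqy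
  have hff : ∀ x y, Full x → Full y → Γ.Reachable x y := fun x y hx hy =>
    reach_of_dvd' N hp₀.one_lt (hx p₀ hp₀ hp₀m) (hy p₀ hp₀ hp₀m)
  obtain ⟨y₁, hy₁⟩ : ∃ y, ¬ Full y := by
    by_contra hh
    push Not at hh
    exact hxy (hff _ _ (hh x₀) (hh y₀))
  obtain ⟨a₀, ha₀, ha₀y⟩ : ∃ a, Full a ∧ ¬ Γ.Reachable y₁ a := by
    by_contra hh
    push Not at hh
    have : ∀ x, Γ.Reachable y₁ x := fun x => if h : Full x then hh x h else hnf y₁ x hy₁ h
    exact hxy ((this x₀).symm.trans (this y₀))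
  have hA : ∀ x, Γ.Reachable a₀ x → Full x := by
    intro x hx
    by_contra h
    exact ha₀y ((hnf y₁ x hy₁ h).trans hx.symm)
  have hB : ∀ x, ¬ Γ.Reachable a₀ x → (x : ℕ).Coprime m := by
    intro x hx
    refine Nat.coprime_of_dvd fun k hk hkx hkm => hx ?_
    exact reach_of_dvd' N hk.one_lt (ha₀ k hk hkm) hkx
  refine ⟨a₀, fun b c hb hc hne =>
    adj_of_dvd N hne hp₀.one_lt (hA b hb p₀ hp₀ hp₀m) (hA c hc p₀ hp₀ hp₀m), ?_⟩
  obtain ⟨r, hr, hcommon⟩ := common_prime N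
  have hI : ∀ b, ¬ Γ.Reachable a₀ b → ∀ θ : Cfsg.IrrCharacter ↥N, 1 < CT.deg (θ : ↥N → ℂ) →
      CT.deg (θ : ↥N → ℂ) ∣ (b : ℕ) → r ∣ CT.deg (θ : ↥N → ℂ) := by
    intro b hb θ h1 hd
    refine hcommon θ h1 (Nat.Coprime.coprime_dvd_left hd (hB b hb)) fun z hz => hB z fun hz' => hb ?_
    exact hz'.trans (reach_of_dvd' N h1 hz hd)
  intro b c hb hc hne
  have hbm := hB b hb
  have hcm := hB c hc
  have hqm : ∀ {q : ℕ} {η : ↥N →* ℂˣ}, PType N q η → q ∣ m := fun h => hidx ▸ prime_dvd_of_pType N h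
  have hfq : ∀ {x : ↥(Cfsg.relCharDegrees N)} {k q : ℕ} {η : ↥N →* ℂˣ}, (x : ℕ).Coprime m →
      k ∣ (x : ℕ) → PType N q η → k.Coprime q := fun {x k q η} h hk hη =>
    (Nat.Coprime.coprime_dvd_right (hqm hη) h).coprime_dvd_left hk
  rcases attached N hNG b hbm with ⟨θ, hθ1, hθd⟩ | ⟨p, η, hη, hηd⟩ <;>
    rcases attached N hNG c hcm with ⟨θ', hθ'1, hθ'd⟩ | ⟨q, ξ, hξ, hξd⟩
  · exact Or.inl (adj_of_dvd N hne hr.one_lt ((hI b hb θ hθ1 hθd).trans hθd)
      ((hI c hc θ' hθ'1 hθ'd).trans hθ'd))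
  · obtain ⟨z, hz1, hz2⟩ := meet_mixed N hNG θ hξ (hfq hbm hθd hξ)
    exact two_step N hne hθ1 (one_lt_dd N hξ.1 ξ) hθd hz1 hξd hz2
  · obtain ⟨z, hz1, hz2⟩ := meet_mixed N hNG θ' hη (hfq hcm hθ'd hη)
    exact two_step N hne (one_lt_dd N hη.1 η) hθ'1 hηd hz2 hθ'd hz1
  · by_cases hpq : p = q
    swap
    · obtain ⟨z, hz1, hz2⟩ := meet_primes N hNG hη hξ hpq
      exact two_step N hne (one_lt_dd N hη.1 η) (one_lt_dd N hξ.1 ξ) hηd hz1 hξd hz2
    subst hpq
    have hpη : ¬ p ∣ dd N p η := fun h => hη.1.ne_one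
      (Nat.eq_one_of_dvd_coprimes (hfq hbm hηd hη) h (dvd_refl p))
    have hpξ : ¬ p ∣ dd N p ξ := fun h => hη.1.ne_one
      (Nat.eq_one_of_dvd_coprimes (hfq hcm hξd hξ) h (dvd_refl p))
    obtain ⟨hηt, hηe⟩ := dd_eq_of_not_dvd N hpη
    obtain ⟨hξt, hξe⟩ := dd_eq_of_not_dvd N hpξ
    by_cases hcop : (dd N p η).Coprime (dd N p ξ)
    swap
    · have hg : 1 < (dd N p η).gcd (dd N p ξ) :=
        lt_of_le_of_ne (Nat.gcd_pos_of_pos_left _ (zero_lt_one.trans (one_lt_dd N hη.1 η))) (Ne.symm hcop)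
      exact Or.inl (adj_of_dvd N hne hg ((Nat.gcd_dvd_left _ _).trans hηd)
        ((Nat.gcd_dvd_right _ _).trans hξd))
    rw [hηe, hξe] at hcop
    have hlamP : IsP N p (η * ξ) := by
      rw [IsP, mul_pow, show η ^ _ = 1 from hη.2.1, show ξ ^ _ = 1 from hξ.2.1]
      exact one_mul (1 : ↥N →* ℂˣ)
    have hc1 : ¬ (stab N η).index.Coprime (stab N (η * ξ)).index := fun h =>
      hpξ (hξe ▸ dvd_index_of_coprime N hη.1 hη.2.1 hηt hcop h)
    have hc2 : ¬ (stab N ξ).index.Coprime (stab N (η * ξ)).index := fun h =>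
      hpη (hηe ▸ dvd_index_of_coprime N hξ.1 hξ.2.1 hξt hcop.symm (mul_comm ξ η ▸ h))
    have hlt : stab N (η * ξ) ≠ ⊤ := fun e => hc1 (by
      rw [e, Subgroup.index_top]; exact Nat.coprime_one_right _)
    have hl1 : η * ξ ≠ 1 := fun e => hlt (eq_top_iff.mpr fun g _ => by
      rw [e]; exact MonoidHom.ext fun n => rfl)
    obtain ⟨z, hz⟩ := PType.exists_vertex N hNG (η := η * ξ) ⟨hη.1, hlamP, hl1⟩
    rw [show dd N p (η * ξ) = (stab N (η * ξ)).index from if_neg hlt] at hz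
    rw [hηe] at hηd
    rw [hξe] at hξd
    have hpos : ∀ K : Subgroup G, ∀ k : ℕ, ¬ K.index.Coprime k → 1 < K.index.gcd k := fun K k h =>
      lt_of_le_of_ne (Nat.gcd_pos_of_pos_left _ (Nat.pos_of_ne_zero Subgroup.index_ne_zero_of_finite))
        (Ne.symm h)
    exact two_step N hne (hpos _ _ hc1) (hpos _ _ hc2) ((Nat.gcd_dvd_left _ _).trans hηd)
      ((Nat.gcd_dvd_right _ _).trans hz) ((Nat.gcd_dvd_left _ _).trans hξd)
      ((Nat.gcd_dvd_right _ _).trans hz)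

end Cfsg.Agent.RelGraph23
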