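import Cfsg.Agent.Lib.RelGraph23.Det

/-!
# Linear characters of a normal subgroup: conjugation, stabilisers, primary parts
-/

set_option autoImplicit false

attribute [-instance] MonoidHom.instPow MonoidHom.mul instOneMonoidHom MonoidHom.instInv

namespace Cfsg.Agent.RelGraph23

open scoped Pointwise

universe u

variable {G : Type u} [Group G] [Finite G] (N : Subgroup G) [N.Normal]

/-- Conjugation of a linear character of a normal subgroup. -/
noncomputable def cj (g : G) (η : ↥N →* ℂˣ) : ↥N →* ℂˣ :=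
  η.comp (MulAut.conjNormal g).toMonoidHom

omit [Finite G] in
theorem cj_apply (g : G) (η : ↥N →* ℂˣ) (n : ↥N) :
    cj N g η n = η (MulAut.conjNormal g n) := rfl

omit [Finite G] in
theorem cj_one (η : ↥N →* ℂˣ) : cj N 1 η = η := MonoidHom.ext fun n => by simp [cj_apply]

omit [Finite G] in
theorem cj_cj (g h : G) (η : ↥N →* ℂˣ) : cj N (g * h) η = cj N h (cj N g η) :=
  MonoidHom.ext fun n => by simp [cj_apply, map_mul, MulAut.mul_apply]

omit [Finite G] in
theorem cj_mul (g : G) (η ξ : ↥N →* ℂˣ) : cj N g (η * ξ) = cj N g η * cj N g ξ := rfl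

omit [Finite G] in
theorem cj_pow (g : G) (η : ↥N →* ℂˣ) (k : ℕ) : cj N g (η ^ k) = cj N g η ^ k := rfl

/-- The stabiliser of a linear character. -/
noncomputable def stab (η : ↥N →* ℂˣ) : Subgroup G where
  carrier := {g | cj N g η = η}
  one_mem' := cj_one N η
  mul_mem' {g h} hg hh := by
    show cj N (g * h) η = η
    rw [cj_cj, show cj N g η = η from hg, show cj N h η = η from hh]
  inv_mem' {g} hg := by
    show cj N g⁻¹ η = η
    conv_lhs => rw [← show cj N g η = η from hg]
    rw [← cj_cj, mul_inv_cancel, cj_one]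

omit [Finite G] in
theorem mem_stab {η : ↥N →* ℂˣ} {g : G} : g ∈ stab N η ↔ cj N g η = η := Iff.rfl

omit [Finite G] in
theorem stab_le_pow (η : ↥N →* ℂˣ) (k : ℕ) : stab N η ≤ stab N (η ^ k) := fun g hg => by
  rw [mem_stab] at hg ⊢
  rw [cj_pow, hg]

theorem ncard_orbit (η : ↥N →* ℂˣ) :
    (Set.range fun g : G => cj N g η).ncard = (stab N η).index := by
  letI : MulAction G (↥N →* ℂˣ) :=
    { smul := fun g x => cj N g⁻¹ x
      one_smul := fun x => by
        show cj N (1 : G)⁻¹ x = x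
        rw [inv_one, cj_one]
      mul_smul := fun g h x => by
        show cj N (g * h)⁻¹ x = cj N g⁻¹ (cj N h⁻¹ x)
        rw [mul_inv_rev, cj_cj] }
  have h1 : stab N η = MulAction.stabilizer G η := by
    ext g
    rw [← inv_mem_iff (H := stab N η), mem_stab, MulAction.mem_stabilizer_iff]
    rfl
  have h2 : (Set.range fun g : G => cj N g η) = MulAction.orbit G η := by
    ext x
    constructor
    · rintro ⟨g, rfl⟩
      exact ⟨g⁻¹, show cj N g⁻¹⁻¹ η = _ by rw [inv_inv]⟩
    · rintro ⟨g, rfl⟩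
      exact ⟨g⁻¹, rfl⟩
  rw [h1, h2, MulAction.index_stabilizer]

/-- Two subgroups of coprime index have product everything. -/
theorem exists_mul_of_coprime_index {T U : Subgroup G} (h : T.index.Coprime U.index) (g : G) :
    ∃ t ∈ T, ∃ u ∈ U, t * u = g := by
  have hT : T.relIndex U = T.index := by
    have h1 : T.index ∣ (T ⊓ U).index := Subgroup.index_dvd_of_le inf_le_left
    have h2 : T.relIndex U * U.index = (T ⊓ U).index := by
      rw [← Subgroup.inf_relIndex_right]
      exact Subgroup.relIndex_mul_index inf_le_right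
    refine le_antisymm (Subgroup.relIndex_le_of_le_right le_top ?_ |>.trans ?_) ?_
    · rw [Subgroup.relIndex_top_right]; exact Subgroup.index_ne_zero_of_finite
    · rw [Subgroup.relIndex_top_right]
    · refine Nat.le_of_dvd (Nat.pos_of_ne_zero ?_) (h.dvd_of_dvd_mul_right (h2 ▸ h1))
      exact Subgroup.index_ne_zero_of_finite
  let f : ↥U ⧸ T.subgroupOf U → G ⧸ T :=
    Quotient.map' (fun u => (u : G)) fun a b hab => by
      rw [QuotientGroup.leftRel_apply] at hab ⊢
      simpa [Subgroup.mem_subgroupOf] using hab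
  have hf : Function.Injective f := by
    intro a b
    induction a using QuotientGroup.induction_on with
    | H a =>
      induction b using QuotientGroup.induction_on with
      | H b =>
        intro hab
        have h' : (a : G)⁻¹ * (b : G) ∈ T := QuotientGroup.eq.mp hab
        exact QuotientGroup.eq.mpr (by simpa [Subgroup.mem_subgroupOf] using h')
  obtain ⟨q, hq⟩ := ((Nat.bijective_iff_injective_and_card f).mpr ⟨hf, hT⟩).2
    (QuotientGroup.mk g⁻¹)
  induction q using QuotientGroup.induction_on with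
  | H u =>
    have h' : (u : G)⁻¹ * g⁻¹ ∈ T := QuotientGroup.eq.mp hq
    exact ⟨g * u, by simpa using inv_mem h', (u : G)⁻¹, inv_mem u.2, by simp⟩

theorem exists_cj_pair {η ξ : ↥N →* ℂˣ} (h : (stab N η).index.Coprime (stab N ξ).index)
    (a b : G) : ∃ g : G, cj N g η = cj N a η ∧ cj N g ξ = cj N b ξ := by
  obtain ⟨t, ht, u, hu, htu⟩ := exists_mul_of_coprime_index h (a * b⁻¹)
  refine ⟨t⁻¹ * a, ?_, ?_⟩
  · rw [cj_cj, show cj N t⁻¹ η = η from inv_mem ht]
  · have : t⁻¹ * a = u * b := by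
      rw [inv_mul_eq_iff_eq_mul, ← mul_assoc, htu, inv_mul_cancel_right]
    rw [this, cj_cj, show cj N u ξ = ξ from hu]

/-- If the product of a `p`-element `η` with `ξ` has orbit length prime to that of `η`, then
`p` divides the orbit length of `ξ`. -/
theorem dvd_index_of_coprime {p : ℕ} (hp : p.Prime) {η ξ : ↥N →* ℂˣ} {s : ℕ}
    (hη : η ^ p ^ s = 1) (hne : stab N η ≠ ⊤)
    (hab : (stab N η).index.Coprime (stab N ξ).index)
    (hc : (stab N η).index.Coprime (stab N (η * ξ)).index) :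
    p ∣ (stab N ξ).index := by
  classical
  haveI := Fintype.ofFinite G
  obtain ⟨g₀, hg₀⟩ : ∃ g₀, cj N g₀ η ≠ η := by
    by_contra hh
    push Not at hh
    exact hne (eq_top_iff.mpr fun g _ => hh g)
  set k := cj N g₀ η * η⁻¹ with hk
  let O : Finset (↥N →* ℂˣ) := Finset.univ.image fun g : G => cj N g ξ
  have hO : O.card = (stab N ξ).index := by
    rw [← ncard_orbit, ← Set.ncard_coe_finset]
    simp [O]
  have hmem : ∀ z ∈ O, z * k ∈ O := by
    intro z hz
    obtain ⟨b, -, rfl⟩ := Finset.mem_image.mp hz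
    obtain ⟨g, hg1, hg2⟩ := exists_cj_pair N hab g₀ b
    obtain ⟨g', hg'1, hg'2⟩ := exists_cj_pair N hc 1 g
    refine Finset.mem_image.mpr ⟨g', Finset.mem_univ _, ?_⟩
    rw [cj_mul, cj_mul, hg'1, cj_one, hg1, hg2] at hg'2
    refine MonoidHom.ext fun n => ?_
    have e := DFunLike.congr_fun hg'2 n
    simp only [MonoidHom.mul_apply] at e
    simp only [hk, MonoidHom.mul_apply, MonoidHom.inv_apply]
    rw [← mul_assoc, eq_mul_inv_iff_mul_eq, mul_comm, e, mul_comm]
  have himg : O.image (· * k) = O :=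
    Finset.eq_of_subset_of_card_le (Finset.image_subset_iff.mpr hmem)
      (Finset.card_image_of_injective O (mul_left_injective k)).ge
  have hpow : k ^ O.card = 1 := by
    have h1 : ∏ z ∈ O, z * k = ∏ z ∈ O, z := by
      conv_rhs => rw [← himg, Finset.prod_image fun a _ b _ e => mul_left_injective k e]
    rw [Finset.prod_mul_distrib, Finset.prod_const, mul_eq_left] at h1
    exact h1
  have hkp : k ^ p ^ s = 1 := by
    refine MonoidHom.ext fun n => ?_
    have e : ∀ n, η n ^ p ^ s = 1 := fun n => by simpa using DFunLike.congr_fun hη n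
    simp [hk, cj_apply, mul_pow, e]
  obtain ⟨i, _, hi⟩ := (Nat.dvd_prime_pow hp).mp (orderOf_dvd_of_pow_eq_one hkp)
  have hk1 : k ≠ 1 := fun e => hg₀ (mul_inv_eq_one.mp e)
  rcases i.eq_zero_or_pos with rfl | hi0
  · exact absurd (orderOf_eq_one_iff.mp (by simpa using hi)) hk1
  · rw [← hO]
    exact ((dvd_pow_self p hi0.ne').trans hi.symm.dvd).trans (orderOf_dvd_of_pow_eq_one hpow)

/-! ## Primary parts -/

theorem pow_card_lin (η : ↥N →* ℂˣ) : η ^ Nat.card ↥N = 1 :=
  MonoidHom.ext fun n => by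
    rw [MonoidHom.pow_apply, ← map_pow, pow_card_eq_one', map_one]; rfl

/-- The cofactor of the `p`-part of the order of `N`. -/
noncomputable def rr (p : ℕ) : ℕ := Nat.card ↥N / p ^ (Nat.card ↥N).factorization p

/-- A linear character of `p`-power order. -/
def IsP (p : ℕ) (η : ↥N →* ℂˣ) : Prop := η ^ p ^ (Nat.card ↥N).factorization p = 1

theorem rr_coprime {p : ℕ} (hp : p.Prime) : (rr N p).Coprime p :=
  (Nat.coprime_ordCompl hp Nat.card_pos.ne').symm

theorem isP_pow_rr (p : ℕ) (η : ↥N →* ℂˣ) : IsP N p (η ^ rr N p) := by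
  rw [IsP, ← pow_mul, rr, Nat.div_mul_cancel (Nat.ordProj_dvd _ _), pow_card_lin]

theorem pow_rr_eq_one {p q : ℕ} (hp : p.Prime) (hq : q.Prime) (hpq : p ≠ q) {w : ↥N →* ℂˣ}
    (hw : IsP N q w) : w ^ rr N p = 1 := by
  have h1 : (q ^ (Nat.card ↥N).factorization q).Coprime (p ^ (Nat.card ↥N).factorization p) :=
    ((Nat.coprime_primes hq hp).mpr hpq.symm).pow _ _
  have h2 : q ^ (Nat.card ↥N).factorization q ∣ rr N p := by
    refine h1.dvd_of_dvd_mul_left ?_
    rw [rr, Nat.mul_div_cancel' (Nat.ordProj_dvd _ _)]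
    exact Nat.ordProj_dvd _ _
  obtain ⟨c, hc⟩ := h2
  rw [hc, pow_mul, show w ^ q ^ (Nat.card ↥N).factorization q = 1 from hw]
  exact one_pow (M := ↥N →* ℂˣ) _

theorem exists_primePart {η : ↥N →* ℂˣ} (h : η ≠ 1) :
    ∃ p : ℕ, p.Prime ∧ η ^ rr N p ≠ 1 := by
  obtain ⟨p, hp, hpd⟩ := Nat.exists_prime_and_dvd (fun e : orderOf η = 1 => h (orderOf_eq_one_iff.mp e))
  refine ⟨p, hp, fun e => ?_⟩
  exact (hp.coprime_iff_not_dvd.mp (rr_coprime N hp).symm)
    (hpd.trans (orderOf_dvd_of_pow_eq_one e))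

theorem exists_root {p n : ℕ} (hn : n.Coprime p) {z : ↥N →* ℂˣ} (hz : IsP N p z) :
    ∃ w : ↥N →* ℂˣ, IsP N p w ∧ w ^ n = z ∧ stab N w = stab N z := by
  have hco : n.Coprime (orderOf z) :=
    Nat.Coprime.coprime_dvd_right (orderOf_dvd_of_pow_eq_one hz) (hn.pow_right _)
  obtain ⟨m, hm⟩ := exists_pow_eq_self_of_coprime hco
  refine ⟨z ^ m, ?_, by rwa [← pow_mul, mul_comm, pow_mul], le_antisymm ?_ (stab_le_pow N z m)⟩
  · rw [IsP, ← pow_mul, mul_comm, pow_mul, show z ^ _ = 1 from hz]
    exact one_pow (M := ↥N →* ℂˣ) _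
  · conv_rhs => rw [← show (z ^ m) ^ n = z by rwa [← pow_mul, mul_comm, pow_mul]]
    exact stab_le_pow N _ n

end Cfsg.Agent.RelGraph23
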