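import Mathlib.GroupTheory.Abelianization.Defs
import Mathlib.GroupTheory.FiniteAbelian.Duality
import Mathlib.Analysis.Complex.Polynomial.Basic
import Mathlib.Combinatorics.SimpleGraph.Connectivity.Connected
import Cfsg.Prelude.Def_DegreeGraph
import Cfsg.Agent.Lib.CT.Clifford
import Cfsg.Agent.Lib.OddChar.AbelianQuotient
import Cfsg.Agent.Lib.RelGraph23.Linear

/-!
# The common divisor graph of the degrees relative to a normal subgroup inside the derived group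

Every relative degree is linked to the stabiliser index of a primary linear character (or to
the prime itself when that character is invariant, by the determinant), and two such indices
that are both prime to `p` are linked by the product of the characters.
-/

set_option autoImplicit false

attribute [-instance] MonoidHom.instPow MonoidHom.mul instOneMonoidHom MonoidHom.instInv

namespace Cfsg.Agent.RelGraph23

open Cfsg.Agent
open scoped Classical

universe u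

variable {G : Type u} [Group G] [Finite G] (N : Subgroup G) [hN : N.Normal]

/-- The common divisor attached to a primary linear character. -/
noncomputable def dd (p : ℕ) (η : ↥N →* ℂˣ) : ℕ :=
  if stab N η = ⊤ then p else (stab N η).index

theorem one_lt_dd {p : ℕ} (hp : p.Prime) (η : ↥N →* ℂˣ) : 1 < dd N p η := by
  unfold dd
  split_ifs with h
  · exact hp.one_lt
  · exact Subgroup.one_lt_index_of_ne_top h

theorem dd_eq_of_not_dvd {p : ℕ} {η : ↥N →* ℂˣ} (h : ¬ p ∣ dd N p η) :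
    stab N η ≠ ⊤ ∧ dd N p η = (stab N η).index := by
  by_cases h' : stab N η = ⊤
  · exact absurd (by rw [dd, if_pos h']) h
  · exact ⟨h', if_neg h'⟩

theorem detF_conjFun (g : G) {θ : ↥N → ℂ} (hθ : Cfsg.IsCharacter ↥N θ) :
    detF (CT.conjFun N g θ) = cj N g (detF θ) := by
  rw [CT.conjFun_eq_comp]
  exact detF_comp (MulAut.conjNormal g).toMonoidHom hθ

theorem inertia_le_stab {θ : ↥N → ℂ} (hθ : Cfsg.IsCharacter ↥N θ) :
    CT.inertia N θ ≤ stab N (detF θ) := fun g hg => by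
  rw [mem_stab, ← detF_conjFun N g hθ, (CT.mem_inertia N).mp hg]

theorem dd_dvd [Fintype G] [Fintype ↥N] (hNG : N ≤ commutator G) {χ : G → ℂ}
    (hχ : Cfsg.IsIrrCharacter G χ) (θ : Cfsg.IrrCharacter ↥N)
    (hcon : Cfsg.classInner (fun n : ↥N => χ n) θ ≠ 0) {p : ℕ} (hp : p.Prime)
    (hne : detF (θ : ↥N → ℂ) ^ rr N p ≠ 1) :
    dd N p (detF (θ : ↥N → ℂ) ^ rr N p) ∣ CT.deg χ := by
  have hθc := CT.isCharacter_of_isIrr θ.2
  have hres := CT.isCharacter_restrict N (CT.isCharacter_of_isIrr hχ)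
  have hdeg := CT.clifford_mult N hχ θ.2 hcon
  set η := detF (θ : ↥N → ℂ) ^ rr N p with hη
  unfold dd
  split_ifs with htop
  · have hcl := CT.clifford N hχ θ.2 hcon
    rw [CT.mult_spec hres hθc] at hcl
    set e := CT.mult (fun n : ↥N => χ n) (θ : ↥N → ℂ)
    have hchar : ∀ ψ ∈ CT.conjOrbit N (θ : ↥N → ℂ), Cfsg.IsCharacter ↥N ψ := by
      intro ψ hψ
      obtain ⟨g, rfl⟩ := (CT.mem_conjOrbit N).mp hψ
      exact CT.isCharacter_conjFun N g hθc
    have h1 : detF (fun n : ↥N => χ n) = 1 := by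
      rw [show (fun n : ↥N => χ n) = fun n => χ (N.subtype n) from rfl,
        detF_comp N.subtype (CT.isCharacter_of_isIrr hχ)]
      exact MonoidHom.ext fun n => detF_trivial_on_commutator χ (hNG n.2)
    rw [hcl, detF_nsmul (CT.isCharacter_sum _ hchar), detF_sum _ _ hchar] at h1
    have h2 : η ^ ((CT.conjOrbit N (θ : ↥N → ℂ)).card * e) = 1 := by
      have h3 : (∏ ψ ∈ CT.conjOrbit N (θ : ↥N → ℂ), detF ψ) ^ rr N p =
          η ^ (CT.conjOrbit N (θ : ↥N → ℂ)).card := by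
        rw [← Finset.prod_pow, ← Finset.prod_const]
        refine Finset.prod_congr rfl fun ψ hψ => ?_
        obtain ⟨g, rfl⟩ := (CT.mem_conjOrbit N).mp hψ
        rw [detF_conjFun N g hθc, ← cj_pow]
        exact (mem_stab N).mp (htop ▸ Subgroup.mem_top g)
      rw [pow_mul, ← h3, pow_right_comm, h1]
      exact one_pow (M := ↥N →* ℂˣ) _
    obtain ⟨i, _, hi⟩ := (Nat.dvd_prime_pow hp).mp
      (orderOf_dvd_of_pow_eq_one (isP_pow_rr N p (detF (θ : ↥N → ℂ))))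
    have hi0 : i ≠ 0 := fun h0 => hne (orderOf_eq_one_iff.mp (by rw [hi, h0, pow_zero]))
    refine ((dvd_pow_self p hi0).trans (hi.symm.dvd.trans (orderOf_dvd_of_pow_eq_one h2))).trans ?_
    rw [CT.card_conjOrbit, hdeg]
    exact ⟨CT.deg (θ : ↥N → ℂ), by ring⟩
  · rw [hdeg]
    refine Dvd.dvd.mul_right (Dvd.dvd.mul_left ?_ _) _
    exact Subgroup.index_dvd_of_le ((inertia_le_stab N hθc).trans (stab_le_pow N _ _))

theorem exists_over (hNG : N ≤ commutator G) (θ : Cfsg.IrrCharacter ↥N) {p : ℕ} (hp : p.Prime)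
    (hne : detF (θ : ↥N → ℂ) ^ rr N p ≠ 1) :
    ∃ x : ↥(Cfsg.relCharDegrees N),
      dd N p (detF (θ : ↥N → ℂ) ^ rr N p) ∣ (x : ℕ) ∧ CT.deg (θ : ↥N → ℂ) ∣ (x : ℕ) := by
  haveI := Fintype.ofFinite G
  haveI := Fintype.ofFinite ↥N
  obtain ⟨χ, hχ⟩ := CT.exists_irr_over N θ.2
  have hmem : CT.deg (χ : G → ℂ) ∈ Cfsg.relCharDegrees N := by
    refine ⟨χ, ?_, rfl⟩
    by_contra hh
    push Not at hh
    have e : (fun n : ↥N => (χ : G → ℂ) n) = (χ : G → ℂ) 1 • fun _ : ↥N => (1 : ℂ) :=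
      funext fun n => by simp [hh n n.2]
    rw [e, CT.classInner_smul_left] at hχ
    have h1 := CT.eq_of_inner_ne_zero (CT.isIrrCharacter_one) θ.2 (right_ne_zero_of_mul hχ)
    refine hne ?_
    have h2 : detF (θ : ↥N → ℂ) = 1 := by
      rw [← h1, show (fun _ : ↥N => (1 : ℂ)) = fun n => (((1 : ↥N →* ℂˣ) n : ℂˣ) : ℂ) from
        funext fun n => by simp, detF_lin]
    rw [h2]
    exact one_pow (M := ↥N →* ℂˣ) _
  refine ⟨⟨_, hmem⟩, dd_dvd N hNG χ.2 θ hχ hp hne, ?_⟩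
  exact Dvd.intro_left _ (CT.clifford_mult N χ.2 θ.2 hχ).symm

theorem exists_over_lin (hNG : N ≤ commutator G) (w : ↥N →* ℂˣ) {p : ℕ} (hp : p.Prime)
    (hne : w ^ rr N p ≠ 1) : ∃ x : ↥(Cfsg.relCharDegrees N), dd N p (w ^ rr N p) ∣ (x : ℕ) := by
  have e : detF ((CT.linIrr w : Cfsg.IrrCharacter ↥N) : ↥N → ℂ) = w := detF_lin w
  obtain ⟨x, hx, -⟩ := exists_over N hNG (CT.linIrr w) hp (by rw [e]; exact hne)
  exact ⟨x, by rwa [e] at hx⟩

/-- A nontrivial primary linear character. -/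
def PType (p : ℕ) (η : ↥N →* ℂˣ) : Prop := p.Prime ∧ IsP N p η ∧ η ≠ 1

theorem PType.exists_vertex (hNG : N ≤ commutator G) {p : ℕ} {η : ↥N →* ℂˣ} (h : PType N p η) :
    ∃ x : ↥(Cfsg.relCharDegrees N), dd N p η ∣ (x : ℕ) := by
  obtain ⟨w, -, hw, -⟩ := exists_root N (rr_coprime N h.1) h.2.1
  obtain ⟨x, hx⟩ := exists_over_lin N hNG w h.1 (by rw [hw]; exact h.2.2)
  exact ⟨x, by rwa [hw] at hx⟩

theorem reach_of_dvd {s : Set ℕ} {x y : s} {r : ℕ} (hr : 1 < r) (hx : r ∣ (x : ℕ)) (hy : r ∣ (y : ℕ))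
    (hpos : 0 < (x : ℕ)) : (Cfsg.commonDivisorGraph.induce s).Reachable x y := by
  by_cases h : (x : ℕ) = y
  · rw [Subtype.ext h]
  · exact SimpleGraph.Adj.reachable (show Cfsg.commonDivisorGraph.Adj (x : ℕ) (y : ℕ) from
      ⟨h, lt_of_lt_of_le hr (Nat.le_of_dvd (Nat.gcd_pos_of_pos_left _ hpos) (Nat.dvd_gcd hx hy))⟩)

theorem pos_of_mem {x : ℕ} (hx : x ∈ Cfsg.relCharDegrees N) : 0 < x := by
  obtain ⟨χ, -, rfl⟩ := hx
  exact CT.deg_pos χ.2

theorem reach_of_dvd' {x y : ↥(Cfsg.relCharDegrees N)} {r : ℕ} (hr : 1 < r) (hx : r ∣ (x : ℕ))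
    (hy : r ∣ (y : ℕ)) : (Cfsg.commonDivisorGraph.induce (Cfsg.relCharDegrees N)).Reachable x y :=
  reach_of_dvd hr hx hy (pos_of_mem N x.2)

/-- Every two degrees divisible by the two attached divisors are connected. -/
def Linked (p : ℕ) (η : ↥N →* ℂˣ) (q : ℕ) (ξ : ↥N →* ℂˣ) : Prop :=
  ∀ x y : ↥(Cfsg.relCharDegrees N), dd N p η ∣ (x : ℕ) → dd N q ξ ∣ (y : ℕ) →
    (Cfsg.commonDivisorGraph.induce (Cfsg.relCharDegrees N)).Reachable x y

theorem linked_of_ne (hNG : N ≤ commutator G) {p q : ℕ} {η ξ : ↥N →* ℂˣ} (hη : PType N p η)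
    (hξ : PType N q ξ) (hpq : p ≠ q) : Linked N p η q ξ := by
  haveI := Fintype.ofFinite G
  haveI := Fintype.ofFinite ↥N
  obtain ⟨w, hwP, hw, -⟩ := exists_root N (rr_coprime N hη.1) hη.2.1
  obtain ⟨v, hvP, hv, -⟩ := exists_root N (rr_coprime N hξ.1) hξ.2.1
  have e1 : (w * v) ^ rr N p = η := by
    rw [mul_pow, hw, pow_rr_eq_one N hη.1 hξ.1 hpq hvP]
    exact mul_one η
  have e2 : (w * v) ^ rr N q = ξ := by
    rw [mul_pow, hv, pow_rr_eq_one N hξ.1 hη.1 hpq.symm hwP]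
    exact one_mul ξ
  have e : detF ((CT.linIrr (w * v) : Cfsg.IrrCharacter ↥N) : ↥N → ℂ) = w * v := detF_lin (w * v)
  obtain ⟨χ, hχ⟩ := CT.exists_irr_over (G := G) N (CT.linIrr (w * v)).2
  have h1 := dd_dvd N hNG χ.2 _ hχ hη.1 (by rw [e, e1]; exact hη.2.2)
  have h2 := dd_dvd N hNG χ.2 _ hχ hξ.1 (by rw [e, e2]; exact hξ.2.2)
  rw [e, e1] at h1
  rw [e, e2] at h2
  obtain ⟨z, hz⟩ := exists_over_lin N hNG (w * v) hη.1 (by rw [e1]; exact hη.2.2)
  intro x y hx hy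
  have hmem : CT.deg (χ : G → ℂ) ∈ Cfsg.relCharDegrees N := by
    refine ⟨χ, ?_, rfl⟩
    by_contra hh
    push Not at hh
    have e' : (fun n : ↥N => (χ : G → ℂ) n) = (χ : G → ℂ) 1 • fun _ : ↥N => (1 : ℂ) :=
      funext fun n => by simp [hh n n.2]
    rw [e', CT.classInner_smul_left] at hχ
    have h3 := CT.eq_of_inner_ne_zero (CT.isIrrCharacter_one) (CT.linIrr (w * v)).2
      (right_ne_zero_of_mul hχ)
    refine hη.2.2 (e1.symm.trans ?_)
    have h4 : w * v = 1 := MonoidHom.ext fun n => Units.ext (by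
      simpa [CT.linIrr] using (congrFun h3 n).symm)
    rw [h4]
    exact one_pow (M := ↥N →* ℂˣ) _
  exact (reach_of_dvd' N (y := ⟨_, hmem⟩) (one_lt_dd N hη.1 η) hx h1).trans
    (reach_of_dvd' N (one_lt_dd N hξ.1 ξ) h2 hy)

theorem linked_of_not_dvd (hNG : N ≤ commutator G) {p : ℕ} {η ξ : ↥N →* ℂˣ} (hη : PType N p η)
    (hξ : PType N p ξ) (hpη : ¬ p ∣ dd N p η) (hpξ : ¬ p ∣ dd N p ξ) : Linked N p η p ξ := by
  intro x y hx hy
  obtain ⟨hηt, hηd⟩ := dd_eq_of_not_dvd N hpη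
  obtain ⟨hξt, hξd⟩ := dd_eq_of_not_dvd N hpξ
  by_cases hcop : (dd N p η).Coprime (dd N p ξ)
  swap
  · have hr : 1 < (dd N p η).gcd (dd N p ξ) :=
      lt_of_le_of_ne (Nat.gcd_pos_of_pos_left _ (zero_lt_one.trans (one_lt_dd N hη.1 η))) (Ne.symm hcop)
    exact reach_of_dvd' N hr ((Nat.gcd_dvd_left _ _).trans hx) ((Nat.gcd_dvd_right _ _).trans hy)
  rw [hηd, hξd] at hcop
  have hlamP : IsP N p (η * ξ) := by
    rw [IsP, mul_pow, show η ^ _ = 1 from hη.2.1, show ξ ^ _ = 1 from hξ.2.1]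
    exact one_mul (1 : ↥N →* ℂˣ)
  have hc1 : ¬ (stab N η).index.Coprime (stab N (η * ξ)).index := fun h =>
    hpξ (hξd ▸ dvd_index_of_coprime N hη.1 hη.2.1 hηt hcop h)
  have hc2 : ¬ (stab N ξ).index.Coprime (stab N (η * ξ)).index := fun h =>
    hpη (hηd ▸ dvd_index_of_coprime N hξ.1 hξ.2.1 hξt hcop.symm (mul_comm ξ η ▸ h))
  have hlt : stab N (η * ξ) ≠ ⊤ := fun e => hc1 (by rw [e, Subgroup.index_top]; exact Nat.coprime_one_right _)
  have hl1 : η * ξ ≠ 1 := fun e => hlt (eq_top_iff.mpr fun g _ => by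
    rw [e]; exact MonoidHom.ext fun n => rfl)
  obtain ⟨z, hz⟩ := PType.exists_vertex N hNG (η := η * ξ) ⟨hη.1, hlamP, hl1⟩
  rw [show dd N p (η * ξ) = (stab N (η * ξ)).index from if_neg hlt] at hz
  rw [hηd] at hx
  rw [hξd] at hy
  have hpos : ∀ K : Subgroup G, ∀ b : ℕ, ¬ K.index.Coprime b → 1 < K.index.gcd b := fun K b h =>
    lt_of_le_of_ne (Nat.gcd_pos_of_pos_left _ (Nat.pos_of_ne_zero Subgroup.index_ne_zero_of_finite))
      (Ne.symm h)
  exact (reach_of_dvd' N (hpos _ _ hc1) ((Nat.gcd_dvd_left _ _).trans hx)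
      ((Nat.gcd_dvd_right _ _).trans hz)).trans
    (reach_of_dvd' N (hpos _ _ hc2) ((Nat.gcd_dvd_right _ _).trans hz)
      ((Nat.gcd_dvd_left _ _).trans hy))

/-- `x` is connected to a degree divisible by the divisor attached to `η`. -/
def Near (x : ↥(Cfsg.relCharDegrees N)) (p : ℕ) (η : ↥N →* ℂˣ) : Prop :=
  ∃ z : ↥(Cfsg.relCharDegrees N), dd N p η ∣ (z : ℕ) ∧
    (Cfsg.commonDivisorGraph.induce (Cfsg.relCharDegrees N)).Reachable x z

theorem near_cases (hNG : N ≤ commutator G) (x : ↥(Cfsg.relCharDegrees N)) {p : ℕ} (hp : p.Prime)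
    (hpx : ¬ p ∣ (x : ℕ)) :
    (∀ ξ, PType N p ξ → Near N x p ξ) ∨
      ∃ q η, PType N q η ∧ Near N x q η ∧ (q = p → ¬ p ∣ dd N q η) := by
  haveI := Fintype.ofFinite G
  haveI := Fintype.ofFinite ↥N
  obtain ⟨χ, ⟨n₀, hn₀, hne⟩, hdeg⟩ := x.2
  obtain ⟨θ, hθ⟩ := CT.exists_constituent_restrict N χ.2
  have hmult := CT.clifford_mult N χ.2 θ.2 hθ
  have hxdeg : (x : ℕ) = CT.deg (χ : G → ℂ) := hdeg.symm
  have hθc := CT.isCharacter_of_isIrr θ.2
  by_cases h1 : CT.deg (θ : ↥N → ℂ) = 1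
  · right
    obtain ⟨w, hw⟩ := CT.exists_hom_of_degree_one hθc (by rw [CT.deg_eq hθc, h1, Nat.cast_one])
    have hdet : detF (θ : ↥N → ℂ) = w := by rw [hw, detF_lin]
    have hw1 : w ≠ 1 := by
      rintro rfl
      have hinv : ∀ g, CT.conjFun N g (θ : ↥N → ℂ) = θ := fun g => by
        rw [hw]; funext n; simp [CT.conjFun]
      have h2 := CT.restrict_eq_smul_of_invariant N χ.2 θ.2 hθ hinv
      have e1 := congrFun h2 ⟨n₀, hn₀⟩
      have e2 := congrFun h2 1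
      rw [hw] at e1 e2
      simp only [Pi.smul_apply, MonoidHom.one_apply, OneMemClass.coe_one] at e1 e2
      exact hne (e1.trans e2.symm)
    obtain ⟨q, hq, hqw⟩ := exists_primePart N hw1
    refine ⟨q, w ^ rr N q, ⟨hq, isP_pow_rr N q w, hqw⟩, ⟨x, ?_, SimpleGraph.Reachable.refl _⟩, ?_⟩
    · have := dd_dvd N hNG χ.2 θ hθ hq (by rw [hdet]; exact hqw)
      rwa [hdet, ← hxdeg] at this
    · rintro rfl h
      have := dd_dvd N hNG χ.2 θ hθ hq (by rw [hdet]; exact hqw)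
      rw [hdet, ← hxdeg] at this
      exact hpx (h.trans this)
  · left
    intro ξ hξ
    set f := CT.deg (θ : ↥N → ℂ) with hf
    have hfx : f ∣ (x : ℕ) := by rw [hxdeg, hmult]; exact Dvd.intro_left _ rfl
    have hfp : f.Coprime p := (Nat.Coprime.symm (hp.coprime_iff_not_dvd.mpr fun h => hpx (h.trans hfx)))
    have htarget : IsP N p (ξ * ((detF (θ : ↥N → ℂ)) ^ rr N p)⁻¹) := by
      rw [IsP, mul_pow, show ξ ^ _ = 1 from hξ.2.1, inv_pow,
        show (detF (θ : ↥N → ℂ) ^ rr N p) ^ _ = 1 from isP_pow_rr N p _]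
      simp
    obtain ⟨μ, -, hμ, -⟩ := exists_root N (Nat.Coprime.mul_left hfp (rr_coprime N hp)) htarget
    let φ : Cfsg.IrrCharacter ↥N := ⟨(θ : ↥N → ℂ) * fun n => (μ n : ℂ),
      OddChar.isIrr_mul_linear θ.2 (CT.isCharacter_lin μ) (by simp)⟩
    have hdet : detF (φ : ↥N → ℂ) ^ rr N p = ξ := by
      show detF ((θ : ↥N → ℂ) * fun n => (μ n : ℂ)) ^ rr N p = ξ
      rw [detF_mul_lin hθc, mul_pow, ← pow_mul, hμ]
      exact mul_inv_cancel_comm_assoc _ _
    obtain ⟨z, hz1, hz2⟩ := exists_over N hNG φ hp (by rw [hdet]; exact hξ.2.2)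
    rw [hdet] at hz1
    have hφd : CT.deg (φ : ↥N → ℂ) = f := by simp [φ, hf, CT.deg]
    rw [hφd] at hz2
    have hf1 : 1 < f := by
      have := CT.deg_pos θ.2
      omega
    exact ⟨z, hz1, reach_of_dvd' N hf1 hfx hz2⟩

theorem exists_pType {p : ℕ} (hp : p.Prime) (h : p ∣ ⁅N, N⁆.relIndex N) :
    ∃ η : ↥N →* ℂˣ, PType N p η := by
  haveI : Fact p.Prime := ⟨hp⟩
  have hidx : ⁅N, N⁆.relIndex N = (commutator ↥N).index := by
    rw [← Subgroup.map_subtype_commutator, Subgroup.relIndex, Subgroup.subgroupOf,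
      Subgroup.comap_map_eq_self_of_injective N.subtype_injective]
  rw [hidx] at h
  obtain ⟨e⟩ := CommGroup.monoidHom_mulEquiv_of_hasEnoughRootsOfUnity (Abelianization ↥N) ℂ
  obtain ⟨a, ha⟩ := exists_prime_orderOf_dvd_card' (G := Abelianization ↥N) p h
  refine ⟨(e.symm a).comp Abelianization.of, hp, ?_, ?_⟩
  · have hs : 1 ≤ (Nat.card ↥N).factorization p :=
      hp.factorization_pos_of_dvd Nat.card_pos.ne' (h.trans (Subgroup.index_dvd_card _))
    have h1 : (e.symm a) ^ p = 1 := by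
      rw [← map_pow, ← ha, pow_orderOf_eq_one, map_one]
    obtain ⟨c, hc⟩ := pow_dvd_pow p hs
    refine MonoidHom.ext fun n => ?_
    rw [hc, pow_one, pow_mul]
    have h2 : ((e.symm a).comp Abelianization.of) ^ p = 1 := MonoidHom.ext fun m =>
      DFunLike.congr_fun h1 (Abelianization.of m)
    rw [h2]
    exact DFunLike.congr_fun (one_pow (M := ↥N →* ℂˣ) c) n
  · intro h1
    have h2 : e.symm a = 1 := MonoidHom.ext fun b => by
      obtain ⟨n, rfl⟩ := QuotientGroup.mk'_surjective (commutator ↥N) b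
      exact DFunLike.congr_fun h1 n
    rw [← map_one e.symm] at h2
    rw [e.symm.injective h2, orderOf_one] at ha
    exact hp.ne_one ha.symm

theorem prime_dvd_of_pType {p : ℕ} {η : ↥N →* ℂˣ} (h : PType N p η) :
    p ∣ ⁅N, N⁆.relIndex N := by
  have hidx : ⁅N, N⁆.relIndex N = (commutator ↥N).index := by
    rw [← Subgroup.map_subtype_commutator, Subgroup.relIndex, Subgroup.subgroupOf,
      Subgroup.comap_map_eq_self_of_injective N.subtype_injective]
  rw [hidx]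
  have h1 : η ^ (commutator ↥N).index = 1 := MonoidHom.ext fun n => by
    have := Abelianization.commutator_subset_ker η
      ((commutator ↥N).pow_index_mem n)
    rw [MonoidHom.mem_ker, map_pow] at this
    simpa using this
  obtain ⟨i, _, hi⟩ := (Nat.dvd_prime_pow h.1).mp (orderOf_dvd_of_pow_eq_one h.2.1)
  have hi0 : i ≠ 0 := fun h0 => h.2.2 (orderOf_eq_one_iff.mp (by rw [hi, h0, pow_zero]))
  exact ((dvd_pow_self p hi0).trans hi.symm.dvd).trans (orderOf_dvd_of_pow_eq_one h1)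

theorem reach_of_not_full (hNG : N ≤ commutator G) (x y : ↥(Cfsg.relCharDegrees N)) {p q : ℕ}
    (hp : p.Prime) (hpm : p ∣ ⁅N, N⁆.relIndex N) (hpx : ¬ p ∣ (x : ℕ))
    (hq : q.Prime) (hqm : q ∣ ⁅N, N⁆.relIndex N) (hqy : ¬ q ∣ (y : ℕ)) :
    (Cfsg.commonDivisorGraph.induce (Cfsg.relCharDegrees N)).Reachable x y := by
  obtain ⟨η₀, hη₀⟩ := exists_pType N hp hpm
  have key : ∀ {a b : ℕ} {η ξ : ↥N →* ℂˣ}, Near N x a η → Near N y b ξ → Linked N a η b ξ →
      (Cfsg.commonDivisorGraph.induce (Cfsg.relCharDegrees N)).Reachable x y := by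
    rintro a b η ξ ⟨z, hz, hxz⟩ ⟨z', hz', hyz'⟩ hl
    exact hxz.trans ((hl z z' hz hz').trans hyz'.symm)
  have near : ∀ (z : ↥(Cfsg.relCharDegrees N)) {r : ℕ}, r.Prime → r ∣ ⁅N, N⁆.relIndex N →
      ¬ r ∣ (z : ℕ) → ∃ a η, PType N a η ∧ Near N z a η := by
    intro z r hr hrm hrz
    rcases near_cases N hNG z hr hrz with h | ⟨a, η, h1, h2, -⟩
    · obtain ⟨η, hη⟩ := exists_pType N hr hrm
      exact ⟨r, η, hη, h η hη⟩
    · exact ⟨a, η, h1, h2⟩
  have same : ∀ {a : ℕ} {η : ↥N →* ℂˣ}, PType N a η → Linked N a η a η := fun {a η} h x' y' hx hy =>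
    reach_of_dvd' N (one_lt_dd N h.1 η) hx hy
  by_cases hone : ∀ r : ℕ, r.Prime → r ∣ ⁅N, N⁆.relIndex N → r = p
  · obtain rfl := hone q hq hqm
    have hall : ∀ {a : ℕ} {η : ↥N →* ℂˣ}, PType N a η → a = q := fun h =>
      hone _ h.1 (prime_dvd_of_pType N h)
    rcases near_cases N hNG x hp hpx with hx | ⟨a, η, hη, hx, hxd⟩
    · rcases near_cases N hNG y hq hqy with hy | ⟨b, ξ, hξ, hy, -⟩
      · exact key (hx η₀ hη₀) (hy η₀ hη₀) (same hη₀)
      · obtain rfl := hall hξ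
        exact key (hx ξ hξ) hy (same hξ)
    · obtain rfl := hall hη
      rcases near_cases N hNG y hq hqy with hy | ⟨b, ξ, hξ, hy, hyd⟩
      · exact key hx (hy η hη) (same hη)
      · obtain rfl := hall hξ
        exact key hx hy (linked_of_not_dvd N hNG hη hξ (hxd rfl) (hyd rfl))
  · push Not at hone
    obtain ⟨r, hr, hrm, hrp⟩ := hone
    obtain ⟨a, η, hη, hx⟩ := near x hp hpm hpx
    obtain ⟨b, ξ, hξ, hy⟩ := near y hq hqm hqy
    by_cases hab : a = b
    · obtain ⟨c, ζ, hζ, hca⟩ : ∃ c ζ, PType N c ζ ∧ c ≠ a := by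
        by_cases hap : a = p
        · obtain ⟨ζ, hζ⟩ := exists_pType N hr hrm
          exact ⟨r, ζ, hζ, hap ▸ hrp⟩
        · exact ⟨p, η₀, hη₀, Ne.symm hap⟩
      obtain ⟨z, hz⟩ := PType.exists_vertex N hNG hζ
      refine key hx hy fun x' y' hx' hy' => ?_
      exact (linked_of_ne N hNG hη hζ hca.symm x' z hx' hz).trans
        (linked_of_ne N hNG hζ hξ (hab ▸ hca) z y' hz hy')
    · exact key hx hy (linked_of_ne N hNG hη hξ hab)

end Cfsg.Agent.RelGraph23
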